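import Groth.Agent.CommAlgDim.Integral
import Mathlib.RingTheory.NoetherNormalization
import Mathlib.RingTheory.KrullDimension.Polynomial
import Mathlib.RingTheory.KrullDimension.PID
import Mathlib.RingTheory.KrullDimension.Field
import Mathlib.RingTheory.Jacobson.Ring
import Mathlib.RingTheory.MvPolynomial.Localization
import Mathlib.RingTheory.Localization.Integral
import Mathlib.RingTheory.TensorProduct.Basic
import Mathlib.RingTheory.TensorProduct.Maps
import Mathlib.Algebra.CharP.Lemmas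
import Mathlib.FieldTheory.Finite.Basic

/-! Bounds on the number of points of a finite type `ℤ`-algebra in finite fields. -/

set_option autoImplicit false

universe u

namespace PointCount

open MvPolynomial

theorem isJacobsonRing_int : IsJacobsonRing ℤ := by
  rw [isJacobsonRing_iff_prime_eq]
  intro P hP
  by_cases h : P = ⊥
  · subst h
    refine le_antisymm (fun x hx => ?_) Ideal.le_jacobson
    rw [Ideal.mem_bot]
    obtain ⟨l, hl, hlp⟩ := Nat.exists_infinite_primes (x.natAbs + 1)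
    haveI : (Ideal.span {(l : ℤ)}).IsMaximal :=
      PrincipalIdealRing.isMaximal_of_irreducible (Nat.prime_iff_prime_int.mp hlp).irreducible
    have hmem : x ∈ Ideal.span {(l : ℤ)} := by
      rw [Ideal.jacobson, Submodule.mem_sInf] at hx
      exact hx _ ⟨bot_le, inferInstance⟩
    exact Int.natAbs_eq_zero.mp
      (Nat.eq_zero_of_dvd_of_lt (Int.natCast_dvd.mp (Ideal.mem_span_singleton.mp hmem)) (by omega))
  · haveI := IsPrime.to_maximal_ideal (hpi := hP) h
    exact Ideal.jacobson_eq_self_of_isMaximal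

theorem mvPolynomial_dim (k : Type u) [Field k] (s : ℕ) : ringKrullDim (MvPolynomial (Fin s) k) = (s : ℕ) := by
  rw [MvPolynomial.ringKrullDim_of_isNoetherianRing, ringKrullDim_eq_zero_of_field, zero_add, Nat.card_eq_fintype_card,
    Fintype.card_fin]

theorem hom_le {R₀ A F : Type*} [CommRing R₀] [CommRing A] [Algebra R₀ A] [Field F] [Finite F]
    [Subsingleton (R₀ →+* F)] {s : ℕ} (x : Fin s → A) {ι : Type*} [Fintype ι] (t : ι → A)
    (ht : ∀ φ ψ : A →+* F, (∀ i, φ (t i) = ψ (t i)) → φ = ψ)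
    (P : ι → Polynomial (MvPolynomial (Fin s) R₀)) (hm : ∀ i, (P i).Monic)
    (hP : ∀ (φ : A →+* F) (i), φ (Polynomial.eval₂ (aeval x).toRingHom (t i) (P i)) = 0) :
    Finite (A →+* F) ∧ Nat.card (A →+* F) ≤ Nat.card F ^ s * ∏ i, (P i).natDegree := by
  classical
  rcases isEmpty_or_nonempty (A →+* F) with h | ⟨⟨φ₀⟩⟩
  · exact ⟨Finite.of_subsingleton, by simp⟩
  let ψ : R₀ →+* F := φ₀.comp (algebraMap R₀ A)
  let Q : (Fin s → F) → ι → Polynomial F := fun v i => (P i).map (eval₂Hom ψ v)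
  let S : Type _ := Σ v : Fin s → F, ∀ i, {y : F // y ∈ (Q v i).roots.toFinset}
  have key : ∀ (φ : A →+* F) (i), φ (t i) ∈ (Q (φ ∘ x) i).roots.toFinset := by
    intro φ i
    rw [Multiset.mem_toFinset, Polynomial.mem_roots ((hm i).map _).ne_zero, Polynomial.IsRoot, Polynomial.eval_map]
    have hc : φ.comp (aeval x).toRingHom = eval₂Hom ψ (φ ∘ x) :=
      MvPolynomial.ringHom_ext (fun r => by
        have : φ.comp (algebraMap R₀ A) = ψ := Subsingleton.elim _ _
        simpa using RingHom.congr_fun this r) (fun j => by simp)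
    rw [← hc, ← Polynomial.hom_eval₂]
    exact hP φ i
  let e : (A →+* F) → S := fun φ => ⟨φ ∘ x, fun i => ⟨φ (t i), key φ i⟩⟩
  have he : Function.Injective e := fun φ φ' h => ht φ φ' fun i =>
    congrArg (fun z : S => (z.2 i).1) h
  haveI : Fintype F := Fintype.ofFinite F
  refine ⟨Finite.of_injective e he, (Nat.card_le_card_of_injective e he).trans ?_⟩
  rw [Nat.card_eq_fintype_card, Fintype.card_sigma, Nat.card_eq_fintype_card]
  refine (Finset.sum_le_card_nsmul _ _ (∏ i, (P i).natDegree) fun v _ => ?_).trans ?_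
  · rw [Fintype.card_pi]
    exact Finset.prod_le_prod' fun i _ => by
      rw [Fintype.card_coe]
      exact (Multiset.toFinset_card_le _).trans ((Polynomial.card_roots' _).trans (Polynomial.natDegree_map_le))
  · rw [Finset.card_univ, Fintype.card_fun, Fintype.card_fin, smul_eq_mul]

theorem le_of_dim {R : Type*} [CommRing R] {r s : ℕ} (h : ringKrullDim R = (s : ℕ)) (hr : ringKrullDim R ≤ r) :
    s ≤ r := by
  rw [h] at hr
  exact_mod_cast hr

/-- Finite type over a prime field. -/
theorem field_bound (p : ℕ) [Fact p.Prime] (B : Type u) [CommRing B] [Algebra (ZMod p) B]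
    [Algebra.FiniteType (ZMod p) B] (r : ℕ) (hr : ringKrullDim B ≤ r) :
    ∃ D : ℕ, ∀ (F : Type u) [Field F] [Finite F],
      Finite (B →+* F) ∧ Nat.card (B →+* F) ≤ D * Nat.card F ^ r := by
  classical
  rcases subsingleton_or_nontrivial B with hB | hB
  · refine ⟨0, fun F _ _ => ?_⟩
    haveI : IsEmpty (B →+* F) := ⟨fun φ => zero_ne_one (α := F) (by
      rw [← map_zero φ, ← map_one φ, Subsingleton.elim (0 : B) 1])⟩
    exact ⟨inferInstance, by simp⟩
  obtain ⟨s, g, hg, hfin⟩ := exists_finite_inj_algHom_of_fg (ZMod p) B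
  letI := g.toRingHom.toAlgebra
  haveI : Module.Finite (MvPolynomial (Fin s) (ZMod p)) B := hfin
  have hs : s ≤ r := le_of_dim ((CommAlgDim.ringKrullDim_eq_of_integral _ B hg).trans (mvPolynomial_dim _ s)) hr
  obtain ⟨T, hT⟩ := (inferInstance : Algebra.FiniteType (ZMod p) B).out
  choose P hm hP using fun t : T => Algebra.IsIntegral.isIntegral (R := MvPolynomial (Fin s) (ZMod p)) (t : B)
  refine ⟨∏ t, (P t).natDegree, fun F _ _ => ?_⟩
  have hg' : (aeval fun i => g (X i)).toRingHom = g.toRingHom := by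
    show (aeval (⇑g ∘ X)).toRingHom = g.toRingHom
    rw [← aeval_unique g]
  obtain ⟨h1, h2⟩ := hom_le (R₀ := ZMod p) (F := F) (fun i => g (X i)) (fun t : T => (t : B))
    (fun φ ψ h => RingHom.ext fun b => by
      have hb : b ∈ Algebra.adjoin (ZMod p) (T : Set B) := hT ▸ Algebra.mem_top
      induction hb using Algebra.adjoin_induction with
      | mem x hx => exact h ⟨x, hx⟩
      | algebraMap c =>
        exact RingHom.congr_fun (Subsingleton.elim (φ.comp (algebraMap (ZMod p) B)) (ψ.comp (algebraMap (ZMod p) B))) c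
      | add x y _ _ hx hy => rw [map_add, map_add, hx, hy]
      | mul x y _ _ hx hy => rw [map_mul, map_mul, hx, hy])
    P hm (fun φ t => by rw [hg']; exact (congrArg φ (hP t)).trans (map_zero φ))
  refine ⟨h1, h2.trans ?_⟩
  rw [mul_comm]
  exact Nat.mul_le_mul_left _ (Nat.pow_le_pow_right (Nat.card_pos) hs)

variable (A : Type u) [CommRing A] [Algebra.FiniteType ℤ A]

theorem small_prime (p : ℕ) [Fact p.Prime] (r : ℕ) (hr : ringKrullDim A ≤ r) :
    ∃ D : ℕ, ∀ (F : Type u) [Field F] [Finite F] [CharP F p],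
      Finite (A →+* F) ∧ Nat.card (A →+* F) ≤ D * Nat.card F ^ r := by
  have hsurj : Function.Surjective (Algebra.TensorProduct.includeRight (R := ℤ) (A := ZMod p) (B := A)) := by
    intro x
    induction x using TensorProduct.induction_on with
    | zero => exact ⟨0, map_zero _⟩
    | tmul c a =>
      obtain ⟨n, rfl⟩ := ZMod.intCast_surjective c
      refine ⟨n • a, ?_⟩
      show (1 : ZMod p) ⊗ₜ[ℤ] (n • a) = _
      rw [← TensorProduct.smul_tmul, zsmul_one]
    | add x y hx hy =>
      obtain ⟨a, ha⟩ := hx; obtain ⟨b, hb⟩ := hy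
      exact ⟨a + b, by rw [map_add, ha, hb]⟩
  have hdim : ringKrullDim (TensorProduct ℤ (ZMod p) A) ≤ r :=
    le_trans (ringKrullDim_le_of_surjective
      (Algebra.TensorProduct.includeRight (R := ℤ) (A := ZMod p) (B := A)).toRingHom hsurj) hr
  haveI : Algebra.FiniteType ℤ (TensorProduct ℤ (ZMod p) A) := Algebra.FiniteType.of_surjective _ hsurj
  haveI : Algebra.FiniteType (ZMod p) (TensorProduct ℤ (ZMod p) A) :=
    Algebra.FiniteType.of_restrictScalars_finiteType ℤ (ZMod p) _
  obtain ⟨D, hD⟩ := field_bound p (TensorProduct ℤ (ZMod p) A) r hdim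
  refine ⟨D, fun F _ _ _ => ?_⟩
  obtain ⟨h1, h2⟩ := hD F
  let L : (A →+* F) → (TensorProduct ℤ (ZMod p) A →+* F) := fun φ =>
    (Algebra.TensorProduct.lift ((ZMod.castHom (dvd_refl p) F).toIntAlgHom) φ.toIntAlgHom
      fun _ _ => Commute.all _ _).toRingHom
  have hL : Function.Injective L := fun φ ψ h => RingHom.ext fun a => by
    simpa [L] using RingHom.congr_fun h ((1 : ZMod p) ⊗ₜ[ℤ] a)
  exact ⟨Finite.of_injective L hL, (Nat.card_le_card_of_injective L hL).trans h2⟩

theorem generic_bound (r : ℕ) (hr : ringKrullDim A ≤ r) :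
    ∃ D p₀ : ℕ, ∀ (F : Type u) [Field F] [Finite F] (p : ℕ) [CharP F p], p₀ ≤ p →
      Finite (A →+* F) ∧ Nat.card (A →+* F) * Nat.card F ≤ D * Nat.card F ^ r := by
  classical
  haveI := isJacobsonRing_int
  let M := Algebra.algebraMapSubmonoid A (nonZeroDivisors ℤ)
  let L := Localization M
  have hmem : ∀ n : ℤ, n ≠ 0 → (n : A) ∈ M := fun n hn =>
    ⟨n, mem_nonZeroDivisors_of_ne_zero hn, by simp⟩
  have hzero : ∀ a : A, algebraMap A L a = 0 → ∃ N : ℤ, N ≠ 0 ∧ (N : A) * a = 0 := fun a ha => by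
    obtain ⟨⟨_, n, hn, rfl⟩, hm⟩ := (IsLocalization.map_eq_zero_iff M L a).mp ha
    exact ⟨n, nonZeroDivisors.ne_zero hn, by simpa using hm⟩
  have hne : ∀ (F : Type u) [Field F] (p : ℕ) [CharP F p] (N : ℤ), N ≠ 0 → N.natAbs < p → ∀ φ : A →+* F,
      φ (N : A) ≠ 0 := by
    intro F _ p _ N hN hlt φ h
    rw [map_intCast, CharP.intCast_eq_zero_iff F p, Int.natCast_dvd] at h
    exact hN (Int.natAbs_eq_zero.mp (Nat.eq_zero_of_dvd_of_lt h hlt))
  rcases subsingleton_or_nontrivial L with hL | hL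
  · obtain ⟨N, hN, hN1⟩ := hzero 1 (Subsingleton.elim _ _)
    refine ⟨0, N.natAbs + 1, fun F _ _ p _ hp => ?_⟩
    haveI : IsEmpty (A →+* F) := ⟨fun φ => hne F p N hN (by omega) φ (by
      simpa using congrArg φ hN1)⟩
    exact ⟨inferInstance, by simp⟩
  have hu : ∀ n : nonZeroDivisors ℤ, IsUnit (algebraMap ℤ L n) := fun n => by
    rw [IsScalarTower.algebraMap_apply ℤ A L]
    exact IsLocalization.map_units L (⟨_, n, n.2, rfl⟩ : M)
  let iQ : ℚ →+* L := IsLocalization.lift hu
  letI : Algebra ℚ L := iQ.toAlgebra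
  obtain ⟨T, hT⟩ := (inferInstance : Algebra.FiniteType ℤ A).out
  have hgen : ∀ a : A, algebraMap A L a ∈ Algebra.adjoin ℚ (algebraMap A L '' (T : Set A)) := by
    intro a
    have ha : a ∈ Algebra.adjoin ℤ (T : Set A) := hT ▸ Algebra.mem_top
    induction ha using Algebra.adjoin_induction with
    | mem x hx => exact Algebra.subset_adjoin ⟨x, hx, rfl⟩
    | algebraMap c => simp
    | add x y _ _ hx hy => rw [map_add]; exact add_mem hx hy
    | mul x y _ _ hx hy => rw [map_mul]; exact mul_mem hx hy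
  have hinv : ∀ n : nonZeroDivisors ℤ, ∀ z : L, z * algebraMap ℤ L n ∈ Algebra.adjoin ℚ (algebraMap A L '' (T : Set A)) →
      z ∈ Algebra.adjoin ℚ (algebraMap A L '' (T : Set A)) := by
    intro n z hz
    have : z = algebraMap ℚ L ((n : ℤ) : ℚ)⁻¹ * (z * algebraMap ℤ L n) := by
      rw [show algebraMap ℤ L n = algebraMap ℚ L ((n : ℤ) : ℚ) by simp, mul_left_comm, ← map_mul,
        inv_mul_cancel₀ (by simp [nonZeroDivisors.coe_ne_zero n]), map_one, mul_one]
    rw [this]
    exact mul_mem (Subalgebra.algebraMap_mem _ _) hz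
  haveI : Algebra.FiniteType ℚ L := ⟨⟨T.image (algebraMap A L), by
    rw [eq_top_iff, Finset.coe_image]
    intro z _
    obtain ⟨⟨a, ⟨_, n, hn, rfl⟩⟩, hz⟩ := IsLocalization.surj M z
    refine hinv ⟨n, hn⟩ z ?_
    rw [IsScalarTower.algebraMap_apply ℤ A L, hz]
    exact hgen a⟩⟩
  obtain ⟨s, g, hg, hfin⟩ := exists_finite_inj_algHom_of_fg ℚ L
  have hs : s + 1 ≤ r := by
    have h1 : ringKrullDim L = (s : ℕ) := by
      letI := g.toRingHom.toAlgebra
      haveI : Module.Finite (MvPolynomial (Fin s) ℚ) L := hfin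
      exact (CommAlgDim.ringKrullDim_eq_of_integral _ L hg).trans (mvPolynomial_dim _ s)
    by_contra hlt
    obtain ⟨l, hl⟩ := (Order.le_krullDim_iff (α := PrimeSpectrum L) (n := s)).mp h1.ge
    have hsm : StrictMono (PrimeSpectrum.comap (algebraMap A L)) := fun P Q hPQ => by
      refine lt_of_le_of_ne (fun x hx => hPQ.le hx) fun h => hPQ.ne ?_
      exact PrimeSpectrum.localization_comap_injective L M h
    let l' := l.map _ hsm
    let P := (RelSeries.last l').asIdeal
    have hP : ∀ n : ℤ, n ≠ 0 → (n : A) ∉ P := fun n hn h => by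
      have h' : algebraMap A L (n : A) ∈ (RelSeries.last l).asIdeal := by
        simpa [P, l', LTSeries.last_map] using h
      exact (RelSeries.last l).2.ne_top (Ideal.eq_top_of_isUnit_mem _ h'
        (IsLocalization.map_units L (⟨_, hmem n hn⟩ : M)))
    have hPmax : ¬ P.IsMaximal := fun hmax => by
      letI := Ideal.Quotient.field P
      haveI : Algebra.FiniteType ℤ (A ⧸ P) := Algebra.FiniteType.of_surjective (Ideal.Quotient.mkₐ ℤ P)
        (Ideal.Quotient.mkₐ_surjective ℤ P)
      haveI := finite_of_finite_type_of_isJacobsonRing ℤ (A ⧸ P)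
      have hinj : Function.Injective (algebraMap ℤ (A ⧸ P)) := (injective_iff_map_eq_zero _).mpr fun n hn => by
        by_contra h0
        exact hP n h0 (Ideal.Quotient.eq_zero_iff_mem.mp (by simpa using hn))
      have h := CommAlgDim.ringKrullDim_eq_of_integral ℤ (A ⧸ P) hinj
      rw [ringKrullDim_eq_zero_of_field, IsPrincipalIdealRing.ringKrullDim_eq_one ℤ Int.not_isField] at h
      exact zero_ne_one h
    obtain ⟨Q, hQ, hPQ⟩ := Ideal.exists_le_maximal P (RelSeries.last l').2.ne_top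
    have hlast : RelSeries.last l' < ⟨Q, hQ.isPrime⟩ := lt_of_le_of_ne hPQ fun h => hPmax (by
      rw [show P = Q from congrArg PrimeSpectrum.asIdeal h]; exact hQ)
    have h2 := (Order.LTSeries.length_le_krullDim (l'.snoc ⟨Q, hQ.isPrime⟩ hlast)).trans hr
    rw [RelSeries.snoc_length] at h2
    have h3 : l'.length = s := hl
    rw [h3] at h2
    norm_cast at h2
  choose q hq using fun i : Fin s => IsLocalization.surj M (g (X i))
  let a : Fin s → A := fun i => (q i).1
  have hdenom : ∀ i, ∃ c : ℚ, c ≠ 0 ∧ algebraMap A L (a i) = algebraMap ℚ L c * g (X i) := fun i => by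
    obtain ⟨n, hn, hqn⟩ := (q i).2.2
    refine ⟨(n : ℤ), Int.cast_ne_zero.mpr (nonZeroDivisors.ne_zero hn), ?_⟩
    rw [← hq i, mul_comm, show ((q i).2 : A) = (n : A) by rw [← hqn]; simp]
    simp
  choose c hc0 hc using hdenom
  let σ : MvPolynomial (Fin s) ℚ →ₐ[ℚ] MvPolynomial (Fin s) ℚ := aeval fun i => C (c i) * X i
  have hσ : Function.Surjective σ := fun x => by
    refine ⟨aeval (fun i => C (c i)⁻¹ * X i) x, ?_⟩
    rw [← AlgHom.comp_apply, show σ.comp (aeval fun i => C (c i)⁻¹ * X i) = AlgHom.id ℚ _ from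
      MvPolynomial.algHom_ext fun i => by
        rw [AlgHom.comp_apply, aeval_X, map_mul, AlgHom.id_apply]
        show aeval (fun i => C (c i) * X i) (C (c i)⁻¹) * aeval (fun i => C (c i) * X i) (X i) = X i
        rw [aeval_C, aeval_X, MvPolynomial.algebraMap_eq, ← mul_assoc, ← map_mul, inv_mul_cancel₀ (hc0 i), map_one,
          one_mul], AlgHom.id_apply]
  let g2 := g.comp σ
  have hg2 : g2.toRingHom.Finite := RingHom.Finite.comp hfin (RingHom.Finite.of_surjective σ.toRingHom hσ)
  let h : MvPolynomial (Fin s) ℤ →+* A := (aeval a).toRingHom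
  letI : Algebra (MvPolynomial (Fin s) ℚ) L := g2.toRingHom.toAlgebra
  letI : Algebra (MvPolynomial (Fin s) ℤ) L := ((algebraMap A L).comp h).toAlgebra
  letI : Algebra (MvPolynomial (Fin s) ℤ) (MvPolynomial (Fin s) ℚ) := MvPolynomial.algebraMvPolynomial
  haveI : IsScalarTower (MvPolynomial (Fin s) ℤ) (MvPolynomial (Fin s) ℚ) L := IsScalarTower.of_algebraMap_eq' <| by
    refine MvPolynomial.ringHom_ext (fun n => by simp) fun i => ?_
    show algebraMap A L (aeval a (X i)) = g2 (MvPolynomial.map (algebraMap ℤ ℚ) (X i))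
    rw [aeval_X, MvPolynomial.map_X, hc i]
    simp [g2, σ]
  haveI : Module.Finite (MvPolynomial (Fin s) ℚ) L := hg2
  have key : ∀ t : T, ∃ (n N : ℤ) (P : Polynomial (MvPolynomial (Fin s) ℤ)), n ≠ 0 ∧ N ≠ 0 ∧ P.Monic ∧
      (N : A) * Polynomial.eval₂ h ((n : A) * t) P = 0 := by
    intro t
    obtain ⟨⟨m, hm⟩, P, hP, hP0⟩ := IsIntegral.exists_multiple_integral_of_isLocalization
      (R := MvPolynomial (Fin s) ℤ) ((nonZeroDivisors ℤ).map (C (σ := Fin s))) (Rₘ := MvPolynomial (Fin s) ℚ)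
      (algebraMap A L t) (Algebra.IsIntegral.isIntegral _)
    obtain ⟨n, hn, rfl⟩ := hm
    obtain ⟨N, hN, hN0⟩ := hzero (Polynomial.eval₂ h ((n : A) * t) P) (by
      rw [Polynomial.hom_eval₂, ← hP0]
      congr 1
      show algebraMap A L ((n : A) * t) = (C n : MvPolynomial (Fin s) ℤ) • algebraMap A L t
      rw [Algebra.smul_def]
      show _ = algebraMap A L (h (C n)) * _
      simp [h])
    exact ⟨n, N, P, nonZeroDivisors.ne_zero hn, hN, hP, hN0⟩
  choose n N P hn hN hm hP using key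
  refine ⟨∏ t, (P t).natDegree, ∑ t, ((n t).natAbs + (N t).natAbs) + 1, fun F _ _ p _ hp => ?_⟩
  have hlt : ∀ t, (n t).natAbs < p ∧ (N t).natAbs < p := fun t => by
    have := Finset.single_le_sum (f := fun t => (n t).natAbs + (N t).natAbs) (fun _ _ => Nat.zero_le _)
      (Finset.mem_univ t)
    omega
  obtain ⟨h1, h2⟩ := hom_le (R₀ := ℤ) (F := F) a (fun t : T => (n t : A) * t)
    (fun φ ψ he => RingHom.ext fun b => by
      have hb : b ∈ Algebra.adjoin ℤ (T : Set A) := hT ▸ Algebra.mem_top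
      induction hb using Algebra.adjoin_induction with
      | mem x hx =>
        have he' := he ⟨x, hx⟩
        rw [map_mul, map_mul, show ψ (n ⟨x, hx⟩ : A) = φ (n ⟨x, hx⟩ : A) by simp] at he'
        exact mul_left_cancel₀ (hne F p _ (hn _) (hlt _).1 φ) he'
      | algebraMap z => simp
      | add x y _ _ hx hy => rw [map_add, map_add, hx, hy]
      | mul x y _ _ hx hy => rw [map_mul, map_mul, hx, hy])
    P hm (fun φ t => by
      have := congrArg φ (hP t)
      rw [map_mul, map_zero] at this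
      exact (mul_eq_zero.mp this).resolve_left (hne F p _ (hN t) (hlt t).2 φ))
  refine ⟨h1, (Nat.mul_le_mul_right _ h2).trans ?_⟩
  rw [mul_right_comm, ← pow_succ, mul_comm]
  exact Nat.mul_le_mul_left _ (Nat.pow_le_pow_right (Nat.card_pos) hs)

/-- The bounds for a finite type `ℤ`-algebra. -/
theorem algebra_bound (r : ℕ) (hr : ringKrullDim A ≤ r) :
    ∃ D p₀ : ℕ, (∀ (F : Type u) [Field F] [Finite F] (p : ℕ) [CharP F p],
        Finite (A →+* F) ∧ (p₀ ≤ p → Nat.card (A →+* F) * Nat.card F ≤ D * Nat.card F ^ r) ∧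
          Nat.card (A →+* F) ≤ D * Nat.card F ^ r) := by
  classical
  obtain ⟨D, p₀, hD⟩ := generic_bound A r hr
  have : ∀ p : Fin p₀, ∃ E : ℕ, ∀ (F : Type u) [Field F] [Finite F] [CharP F p],
      Finite (A →+* F) ∧ Nat.card (A →+* F) ≤ E * Nat.card F ^ r := by
    intro p
    by_cases hp : (p : ℕ).Prime
    · haveI : Fact (p : ℕ).Prime := ⟨hp⟩
      exact small_prime A p r hr
    · refine ⟨0, fun F _ _ _ => absurd (CharP.char_is_prime F (p : ℕ)) hp⟩
  choose E hE using this
  refine ⟨D + ∑ p, E p, p₀, fun F _ _ p _ => ?_⟩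
  by_cases hp : p₀ ≤ p
  · obtain ⟨h1, h2⟩ := hD F p hp
    have h3 : Nat.card (A →+* F) * Nat.card F ≤ (D + ∑ p, E p) * Nat.card F ^ r :=
      h2.trans (Nat.mul_le_mul_right _ (Nat.le_add_right _ _))
    exact ⟨h1, fun _ => h3, (Nat.le_mul_of_pos_right _ Nat.card_pos).trans h3⟩
  · haveI : CharP F (⟨p, not_le.mp hp⟩ : Fin p₀) := ‹CharP F p›
    obtain ⟨h1, h2⟩ := hE ⟨p, not_le.mp hp⟩ F
    exact ⟨h1, fun h => absurd h hp, h2.trans (Nat.mul_le_mul_right _
      ((Finset.single_le_sum (fun _ _ => Nat.zero_le _) (Finset.mem_univ _)).trans (Nat.le_add_left _ _)))⟩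

end PointCount
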